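import Cfsg.Agent.H167.Co3.X0E7
import Cfsg.Agent.H557.Co3.CentE7

/-!
# S1920, `E₇(q)`: the involutions `z` with `m(z) = 64` are conjugate to `h_β(-1)`
-/

set_option autoImplicit false
set_option linter.unusedSectionVars false

namespace Cfsg.Agent.H167.Co3

open CoxeterSystem Cfsg Cfsg.Lie Cfsg.Lie.ChevalleyDatum
open Cfsg.Agent.ChevalleyStructure Cfsg.Agent.ChevalleyStructure.Elts Cfsg.Agent.ChevalleyStructure.CoxeterGeom
  Cfsg.Agent.ChevalleyStructure.CoxeterGeomTypes Cfsg.Agent.ChevalleyStructure.NPerm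
open Cfsg.Agent.Tits.Roots Cfsg.Agent.Nodes Cfsg.Agent.Nodes.Reps Cfsg.Agent.Nodes.BNOf
  Cfsg.Agent.Nodes.RGDChev Cfsg.Agent.Nodes.Bruhat
open Cfsg.Agent.KFacts.RgdField Cfsg.Agent.KFacts.RgdChevCoord
open Cfsg.Agent.BpExc.TorAll Cfsg.Agent.BpExc.TorCent Cfsg.Agent.BpExc.TorChev Cfsg.Agent.BpExc.Tow
  Cfsg.Agent.BpExc.TowChev Cfsg.Agent.GpExc.Field
open Cfsg.Agent.OddHalf.NI.ModelChev Cfsg.Agent.H557.SignTorus

theorem locFin_finite (F : Type) [Field F] [Finite F] : LocFin F := fun _ _ =>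
  ⟨⊤, Finite.of_injective (fun x => (x : F)) Subtype.val_injective, fun _ _ => trivial⟩

section

variable {D : ChevalleyDatum} {l : ℕ} {M : CoxeterMatrix (Fin l)} (hp : IsType D l M) {F : Type} [Field F] [Fintype F]

include hp in
/-- the dimension for an involution of the torus given by the parity of a coefficient -/
theorem mL_par (h2 : (2 : F) ≠ 0) {t : ↥(D.group F)} (ht : t ∈ TT D F) (htt : t * t = 1) (i₀ : Fin l)
    (h : ∀ s < D.nroots, (ch hp (vec D l s) t = 1 ↔ Even (vec D l s i₀))) :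
    mL D t = Nat.card {s : Fin D.nroots // ¬ Even (vec D l s i₀)} := by
  obtain ⟨p, hpc⟩ := CharP.exists F
  have hpp : Fact p.Prime := ⟨(CharP.char_is_prime_or_zero F p).resolve_right (CharP.char_ne_zero_of_finite F p)⟩
  have hk := locFin_finite F
  rw [mL_TT hp p hk h2 ht]
  refine Nat.card_congr (Equiv.subtypeEquivRight fun s => ?_)
  rw [← h s s.2]
  have hroot : IsRoot M.toCoxeterSystem hp.isCartan (vec D l s) := isRoot_vec hp M.toCoxeterSystem s.2
  have h1 := ch_mul hp p hk ht ht hroot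
  rw [htt] at h1
  have h3 := ch_mul hp p hk (one_mem (TT D F)) (one_mem (TT D F)) hroot
  rw [mul_one] at h3
  have h0 := ((coordsL (k := F) hp M.toCoxeterSystem hk p).coord _ hroot).chi_ne_zero (one_mem (TT D F))
  have h4 : ch hp (vec D l s) (1 : ↥(D.group F)) = 1 := (mul_eq_left₀ h0).1 h3.symm
  rw [h4] at h1
  constructor
  · intro h5 h6
    rw [h5] at h6
    exact h2 (by linear_combination -h6)
  · intro h5
    exact (mul_self_eq_one_iff.1 h1.symm).resolve_left h5

end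

variable {F : Type} [Field F] [Fintype F]

theorem card_odd7 : Nat.card {s : Fin chevE7.nroots // ¬ Even (vec chevE7 7 s 0)} = 64 := by
  rw [Nat.card_eq_fintype_card]
  decide +kernel

/-- `m(h_β(-1)) = 64` -/
theorem mL_z7 (h2 : (2 : F) ≠ 0) : mL chevE7 (th Nodes.KindE.isType7 (sg F 7 84)) = 64 := by
  rw [mL_par Nodes.KindE.isType7 h2 (Cfsg.Agent.H557.Toral.th_mem _ _)
    (by rw [← map_mul, sg_mul_self, map_one]) 0 fun s hs => ?_, card_odd7]
  exact ch_sg Nodes.KindE.isType7 (CoxeterMatrix.toCoxeterSystem _) Cfsg.Agent.H557.Co3.CentE7.hcm7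
    (isRoot_vec Nodes.KindE.isType7 _ hs) h2 Cfsg.Agent.H557.Co3.CentE7.n0_E7

/-- **`m(z) = 64` implies that `z` is conjugate to `h_β(-1)`** -/
theorem conj_z7 (ho : Odd (Fintype.card F)) {z : ↥(chevE7.group F)} (hz : z * z = 1) (h64 : mL chevE7 z = 64) :
    ∃ g, g * z * g⁻¹ = th Nodes.KindE.isType7 (sg F 7 84) := by
  have h1 := conj_of_64 ho hz h64
  have h2 := conj_of_64 ho (z := th Nodes.KindE.isType7 (sg F 7 84)) (by rw [← map_mul, sg_mul_self, map_one])
    (mL_z7 (two_ne ho))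
  exact isConj_iff.1 (h1.symm.trans h2)

end Cfsg.Agent.H167.Co3
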